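import Groth.Agent.Tame97.Finite

/-!
# Abelian characters of exponent `r` factor through the fundamental character
-/

set_option autoImplicit false

universe u v

namespace Tame97

open IsLocalRing

variable {R : Type u} [CommRing R] [IsDomain R] [IsDiscreteValuationRing R] [HenselianLocalRing R]
  [IsSepClosed (ResidueField R)]
  {K : Type u} [Field K] [Algebra R K] [IsFractionRing R K]
  {Ω : Type u} [Field Ω] [Algebra K Ω] [IsGalois K Ω]
  (r : ℕ) [NeZero r] (hr : IsUnit (r : ResidueField R))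
  (ϖ : R) (hϖ : Irreducible ϖ) (ρ : Ω) (hρ : ρ ^ r = algebraMap K Ω (algebraMap R K ϖ))

include hr hρ hϖ in
/-- An element of the absolute Galois group fixing `ρ` is a product of two `r`-th powers. -/
theorem exists_pow_mul_pow_gal (σ : Ω ≃ₐ[K] Ω) (hσ : σ ρ = ρ) :
    ∃ τ ν : Ω ≃ₐ[K] Ω, τ ^ r * ν ^ r = σ := by
  classical
  let f : (Ω ≃ₐ[K] Ω) × (Ω ≃ₐ[K] Ω) → (Ω ≃ₐ[K] Ω) := fun p => p.1 ^ r * p.2 ^ r
  have hf : Continuous f := (continuous_fst.pow r).mul (continuous_snd.pow r)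
  have hclosed : IsClosed (Set.range f) := (isCompact_range hf).isClosed
  suffices σ ∈ closure (Set.range f) by
    rw [hclosed.closure_eq] at this
    obtain ⟨⟨τ, ν⟩, h⟩ := this
    exact ⟨τ, ν, h⟩
  rw [mem_closure_iff_nhds]
  intro t ht
  have ht' : (fun g => σ * g) ⁻¹' t ∈ nhds (1 : Ω ≃ₐ[K] Ω) :=
    (continuous_const_mul σ).continuousAt (by simpa using ht)
  obtain ⟨E, hE, hEt⟩ := (krullTopology_mem_nhds_one_iff K Ω _).mp ht'
  haveI := hE
  haveI : FiniteDimensional K (IntermediateField.adjoin K {ρ}) :=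
    IntermediateField.adjoin.finiteDimensional (Algebra.IsIntegral.isIntegral ρ)
  let N : IntermediateField K Ω := IntermediateField.normalClosure K (E ⊔ IntermediateField.adjoin K {ρ} : IntermediateField K Ω) Ω
  haveI : FiniteDimensional K N := normalClosure.is_finiteDimensional K _ Ω
  haveI : Normal K N := normalClosure.normal K _ Ω
  haveI : Algebra.IsSeparable K N := Algebra.isSeparable_tower_bot_of_isSeparable K N Ω
  haveI : IsGalois K N := ⟨⟩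
  have hle : E ⊔ IntermediateField.adjoin K {ρ} ≤ N := IntermediateField.le_normalClosure _
  have hρN : ρ ∈ N := hle ((le_sup_right : _ ≤ E ⊔ IntermediateField.adjoin K {ρ})
    (IntermediateField.mem_adjoin_simple_self K ρ))
  let res : (Ω ≃ₐ[K] Ω) →* (N ≃ₐ[K] N) := AlgEquiv.restrictNormalHom N
  have hres : ∀ (g : Ω ≃ₐ[K] Ω) (x : N), ((res g x : N) : Ω) = g (x : Ω) := fun g x =>
    AlgEquiv.restrictNormal_commutes g N x
  obtain ⟨τ, ν, hτν⟩ := exists_pow_mul_pow (L := N) r hr ϖ hϖ ⟨ρ, hρN⟩ (Subtype.ext (by simpa using hρ))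
    (res σ) (Subtype.ext (by rw [hres]; exact hσ))
  obtain ⟨τ', hτ'⟩ := AlgEquiv.restrictNormalHom_surjective (F := K) (K₁ := N) Ω τ
  obtain ⟨ν', hν'⟩ := AlgEquiv.restrictNormalHom_surjective (F := K) (K₁ := N) Ω ν
  refine ⟨f (τ', ν'), ?_, ⟨(τ', ν'), rfl⟩⟩
  have h1 : res (f (τ', ν')) = res σ := by
    simp only [f, map_mul, map_pow]
    rw [show res τ' = τ from hτ', show res ν' = ν from hν', hτν]
  have h2 : σ⁻¹ * f (τ', ν') ∈ E.fixingSubgroup := by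
    rw [IntermediateField.mem_fixingSubgroup_iff]
    intro x hx
    have hxN : x ∈ N := hle (le_sup_left (b := IntermediateField.adjoin K {ρ}) hx)
    have h3 : res (σ⁻¹ * f (τ', ν')) ⟨x, hxN⟩ = ⟨x, hxN⟩ := by
      rw [map_mul, map_inv, h1, inv_mul_cancel]; rfl
    have := congrArg Subtype.val h3
    rwa [hres] at this
  have := hEt h2
  rwa [Set.mem_preimage, mul_inv_cancel_left] at this

include hr hρ hϖ in
theorem existsUnique_factor (M : Type v) [AddCommGroup M] (hM : ∀ x : M, r • x = 0)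
    (φ : (Ω ≃ₐ[K] Ω) → M) (hφ : ∀ σ τ : Ω ≃ₐ[K] Ω, φ (σ * τ) = φ σ + φ τ) :
    ∃! u : rootsOfUnity r Ω → M, (∀ ζ ξ : rootsOfUnity r Ω, u (ζ * ξ) = u ζ + u ξ) ∧
      ∀ (σ : Ω ≃ₐ[K] Ω) (ζ : rootsOfUnity r Ω), ((ζ : Ωˣ) : Ω) * ρ = σ ρ → φ σ = u ζ := by
  obtain ⟨χ, hχ, hχs⟩ := exists_character (R := R) r hr ϖ hϖ ρ hρ
    (fun x hx => (InfiniteGalois.mem_range_algebraMap_iff_fixed x).mpr hx)
  have hρ0 := rho_ne_zero r ϖ hϖ ρ hρ
  let Φ : Additive (Ω ≃ₐ[K] Ω) →+ M := AddMonoidHom.mk' (fun a => φ a.toMul) fun a b => hφ _ _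
  have hpow : ∀ (g : Ω ≃ₐ[K] Ω), φ (g ^ r) = 0 := fun g => by
    have := map_nsmul Φ r (Additive.ofMul g)
    rw [← ofMul_pow] at this
    exact this.trans (hM _)
  have hker : ∀ σ, χ σ = 1 → φ σ = 0 := by
    intro σ h
    have hσ : σ ρ = ρ := by rw [← hχ, h]; simp
    obtain ⟨τ, ν, rfl⟩ := exists_pow_mul_pow_gal r hr ϖ hϖ ρ hρ σ hσ
    rw [hφ, hpow, hpow, add_zero]
  choose g hg using hχs
  have hwd : ∀ σ τ, χ σ = χ τ → φ σ = φ τ := by
    intro σ τ h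
    have h1 := hφ τ (τ⁻¹ * σ)
    rw [mul_inv_cancel_left, hker (τ⁻¹ * σ) (by rw [map_mul, map_inv, h, inv_mul_cancel]), add_zero] at h1
    exact h1
  have hζ : ∀ (σ : Ω ≃ₐ[K] Ω) (ζ : rootsOfUnity r Ω), ((ζ : Ωˣ) : Ω) * ρ = σ ρ → χ σ = ζ :=
    fun σ ζ h => Subtype.ext (Units.ext (mul_right_cancel₀ hρ0 (by rw [hχ, h])))
  refine ⟨fun ζ => φ (g ζ), ⟨fun ζ ξ => ?_, fun σ ζ h => hwd _ _ ?_⟩, ?_⟩
  · show φ (g (ζ * ξ)) = φ (g ζ) + φ (g ξ)
    rw [← hφ]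
    exact hwd _ _ (by rw [map_mul, hg, hg, hg])
  · rw [hg, hζ σ ζ h]
  · rintro u ⟨-, hu⟩
    funext ζ
    exact (hu (g ζ) ζ (by conv_lhs => rw [← hg ζ]; rw [hχ])).symm

end Tame97
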