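import Groth.Agent.Tame97.General
import Groth.Prelude.Def_SGA7a

/-!
# Galois extensions of prime-to-`p` degree when inertia is everything
-/

set_option autoImplicit false

universe u

namespace Tame97

open IsLocalRing

variable {R K Ω : Type u} [CommRing R] [IsDomain R] [IsDiscreteValuationRing R] [Field K]
  [Algebra R K] [IsFractionRing R K] [Field Ω] [Algebra K Ω] [Algebra R Ω] [IsScalarTower R K Ω]
  (W : ValuationSubring Ω) (hW : SGA7.LiesOver K R W)
  (hI : ∀ σ : Ω ≃ₐ[K] Ω, SGA7.IsInertia W σ)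

include hW in
theorem mem_W (x : R) : algebraMap R Ω x ∈ W := by
  rw [IsScalarTower.algebraMap_apply R K Ω]; exact hW.1 x

include hW in
theorem mem_W_of_isIntegral {z : Ω} (hz : IsIntegral R z) : z ∈ W := by
  let _ : Algebra R W := ((algebraMap R Ω).codRestrict W.toSubring (mem_W W hW)).toAlgebra
  haveI : IsScalarTower R W Ω := IsScalarTower.of_algebraMap_eq fun x => rfl
  obtain ⟨w, hw⟩ := (IsIntegrallyClosed.isIntegral_iff (R := W)).mp hz.tower_top
  exact hw ▸ w.2

include hW in
theorem not_unit_of_val_lt {x : R} (h : W.valuation (algebraMap R Ω x) < 1) : ¬ IsUnit x := by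
  rintro ⟨u, rfl⟩
  have h1 : W.valuation (algebraMap R Ω (u : R)) * W.valuation (algebraMap R Ω ((u⁻¹ : Rˣ) : R)) = 1 := by
    rw [← map_mul, ← map_mul, Units.mul_inv, map_one, map_one]
  have h2 : W.valuation (algebraMap R Ω ((u⁻¹ : Rˣ) : R)) ≤ 1 :=
    (W.valuation_le_one_iff _).mpr (mem_W W hW _)
  exact absurd h1 (ne_of_lt (lt_of_le_of_lt (mul_le_of_le_one_right' h2) h))

variable (r : ℕ) [NeZero r] (hr : IsUnit (r : ResidueField R))

include hW hI hr in
theorem root_mem_of_inertia [IsGalois K Ω] {z : Ω} (hz : z ^ r = 1) :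
    z ∈ (algebraMap K Ω).range := by
  refine (InfiniteGalois.mem_range_algebraMap_iff_fixed z).mpr fun σ => ?_
  have hz0 : z ≠ 0 := fun h => by rw [h, zero_pow (NeZero.ne r)] at hz; exact zero_ne_one hz
  have hzi : IsIntegral R z := IsIntegral.of_pow (NeZero.pos r) (hz.symm ▸ isIntegral_one)
  have hzW := mem_W_of_isIntegral W hW hzi
  have hzval : W.valuation z = 1 := by
    have h1 : W.valuation z ^ r = 1 := by rw [← map_pow, hz, map_one]
    exact (pow_eq_one_iff.mp h1).resolve_right (NeZero.ne r)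
  by_contra hne
  set t := σ z / z with ht
  have ht1 : t ≠ 1 := fun h => hne (by rwa [ht, div_eq_one_iff_eq hz0] at h)
  have htr : t ^ r = 1 := by rw [ht, div_pow, ← map_pow, hz, map_one, div_one]
  have htlt : W.valuation (t - 1) < 1 := by
    rw [ht, div_sub_one hz0, map_div₀, hzval, div_one]
    exact (hI σ z hzW).2
  have hsum : ∑ i ∈ Finset.range r, t ^ i = 0 := by
    have := geom_sum_mul t r
    rw [htr, sub_self] at this
    exact (mul_eq_zero.mp this).resolve_right (sub_ne_zero.mpr ht1)
  have htW : t ∈ W := mem_W_of_isIntegral W hW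
    (IsIntegral.of_pow (NeZero.pos r) (htr.symm ▸ isIntegral_one))
  have hrlt : W.valuation (algebraMap R Ω (r : R)) < 1 := by
    have e : algebraMap R Ω (r : R) = ∑ i ∈ Finset.range r, (1 - t ^ i) := by
      rw [Finset.sum_sub_distrib, hsum, sub_zero]; simp
    rw [e]
    refine W.valuation.map_sum_lt one_ne_zero fun i _ => ?_
    obtain ⟨w, hw⟩ : (1 - t) ∣ (1 - t ^ i) := by simpa using sub_dvd_pow_sub_pow 1 t i
    rw [hw, map_mul, ← W.valuation.map_neg (1 - t), neg_sub]
    refine lt_of_le_of_lt (mul_le_of_le_one_right' ((W.valuation_le_one_iff _).mpr ?_)) htlt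
    have hsumW : (∑ j ∈ Finset.range i, t ^ j) ∈ W :=
      sum_mem (fun j _ => pow_mem htW j)
    have : w = ∑ j ∈ Finset.range i, t ^ j := by
      have h3 := mul_geom_sum t i
      apply mul_left_cancel₀ (sub_ne_zero.mpr (Ne.symm ht1))
      rw [← hw]; linear_combination h3
    rw [this]; exact hsumW
  refine not_unit_of_val_lt W hW hrlt ?_
  rw [← residue_ne_zero_iff_isUnit, map_natCast]
  exact hr.ne_zero

section Finite

variable [IsGalois K Ω] (L : IntermediateField K Ω) [FiniteDimensional K L] [IsGalois K L]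

include hW in
theorem coe_mem_W (a : integralClosure R L) : ((a : L) : Ω) ∈ W :=
  mem_W_of_isIntegral W hW (a.2.map (L.val.restrictScalars R))

/-- The centre of `W` on the integral closure. -/
noncomputable def toW : integralClosure R L →+* W :=
  ((algebraMap L Ω).comp (integralClosure R L).val.toRingHom).codRestrict W.toSubring
    (coe_mem_W W hW L)

include hW hI in
theorem not_isUnit_act_sub (s : L ≃ₐ[K] L) (a : integralClosure R L) :
    galRestrict R K L (integralClosure R L) s a - a ∈
      (maximalIdeal W).comap (toW W hW L) := by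
  obtain ⟨σ, hσ⟩ := AlgEquiv.restrictNormalHom_surjective (F := K) (K₁ := L) Ω s
  rw [Ideal.mem_comap, IsLocalRing.mem_maximalIdeal, mem_nonunits_iff,
    W.valuation_eq_one_iff]
  refine ne_of_lt ?_
  have e : ((toW W hW L (galRestrict R K L (integralClosure R L) s a - a) : W) : Ω) =
      σ ((a : L) : Ω) - ((a : L) : Ω) := by
    have h1 : ((galRestrict R K L (integralClosure R L) s a : integralClosure R L) : L) = s (a : L) :=
      algebraMap_galRestrict_apply R s a
    have h2 : ((s (a : L) : L) : Ω) = σ ((a : L) : Ω) := by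
      rw [← hσ]; exact AlgEquiv.restrictNormal_commutes σ L (a : L)
    show (((galRestrict R K L (integralClosure R L) s a - a : integralClosure R L) : L) : Ω) = _
    rw [AddSubgroupClass.coe_sub, AddSubgroupClass.coe_sub, h1, h2]
  rw [e]
  exact (hI σ _ (coe_mem_W W hW L a)).2

include hW hI in
theorem mem_centre_of_not_isUnit {a : integralClosure R L} (ha : ¬ IsUnit a) :
    a ∈ (maximalIdeal W).comap (toW W hW L) := by
  classical
  by_contra hP
  set P := (maximalIdeal W).comap (toW W hW L) with hPdef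
  haveI : P.IsPrime := Ideal.IsPrime.comap _
  let V := integralClosure R L
  let N : V := ∏ s : L ≃ₐ[K] L, galRestrict R K L V s a
  have hNP : N ∉ P := fun h => by
    obtain ⟨s, -, hs⟩ := (Ideal.IsPrime.prod_mem_iff).mp h
    exact hP (by
      convert P.sub_mem hs (not_isUnit_act_sub W hW hI L s a) using 1
      exact (sub_sub_cancel _ _).symm)
  have hfix : ∀ t : L ≃ₐ[K] L, t (N : L) = (N : L) := by
    intro t
    have h1 : galRestrict R K L V t N = N := by
      simp only [N, map_prod]
      exact Fintype.prod_equiv (Equiv.mulLeft t) _ _ fun s => by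
        rw [Equiv.coe_mulLeft, map_mul]; rfl
    have h2 : ((galRestrict R K L V t N : V) : L) = t (N : L) :=
      algebraMap_galRestrict_apply R t N
    rw [← h2, h1]
  obtain ⟨k, hk⟩ := (IsGalois.mem_range_algebraMap_iff_fixed (N : L)).mpr hfix
  have hkint : IsIntegral R k := by
    refine (isIntegral_algHom_iff (IsScalarTower.toAlgHom R K L) (algebraMap K L).injective).mp ?_
    show IsIntegral R (algebraMap K L k)
    rw [hk]; exact N.2
  obtain ⟨n, rfl⟩ := IsIntegrallyClosed.isIntegral_iff.mp hkint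
  have hn : N = algebraMap R V n := Subtype.ext (by
    rw [← hk, ← IsScalarTower.algebraMap_apply]; rfl)
  have hnu : IsUnit n := by
    by_contra hnu
    refine hNP ?_
    rw [hn, hPdef, Ideal.mem_comap, IsLocalRing.mem_maximalIdeal, mem_nonunits_iff,
      W.valuation_eq_one_iff]
    refine ne_of_lt ?_
    show W.valuation (((algebraMap R V n : V) : L) : Ω) < 1
    have := hW.2 n ((IsLocalRing.mem_maximalIdeal n).mpr hnu)
    rwa [show (((algebraMap R V n : V) : L) : Ω) = algebraMap K Ω (algebraMap R K n) from by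
      rw [← IsScalarTower.algebraMap_apply R K Ω]; rfl]
  refine ha (isUnit_of_dvd_unit ?_ (hn ▸ hnu.map (algebraMap R V) : IsUnit N))
  have h1 : galRestrict R K L V 1 a = a := by rw [map_one]; rfl
  conv_lhs => rw [← h1]
  exact Finset.dvd_prod_of_mem _ (Finset.mem_univ _)

include hW in
theorem centre_ne_top : (maximalIdeal W).comap (toW W hW L) ≠ ⊤ :=
  Ideal.comap_ne_top _ (maximalIdeal.isMaximal W).ne_top

include hW hI in
theorem isLocalRing_integralClosure : IsLocalRing (integralClosure R L) :=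
  IsLocalRing.of_nonunits_add fun a b ha hb hu => by
    have h := Ideal.add_mem _ (mem_centre_of_not_isUnit W hW hI L ha)
      (mem_centre_of_not_isUnit W hW hI L hb)
    exact centre_ne_top W hW L
      (Ideal.eq_top_of_isUnit_mem _ h hu)

include hW hI hr in
theorem exists_pow_of_fix (ϖ : R) (hϖ : Irreducible ϖ) (ρ : L)
    (hρ : ρ ^ r = algebraMap K L (algebraMap R K ϖ)) (σ : L ≃ₐ[K] L) (hσ : σ ρ = ρ) :
    ∃ τ ν : L ≃ₐ[K] L, τ ^ r * ν ^ r = σ := by
  refine exists_pow_mul_pow' (R := R) r hr ϖ hϖ ρ hρ (fun z hz => ?_)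
    (isLocalRing_integralClosure W hW hI L) (fun s a hu => ?_) σ hσ
  · obtain ⟨k, hk⟩ := root_mem_of_inertia (R := R) W hW hI r hr
      (show (algebraMap L Ω z) ^ r = 1 by rw [← map_pow, hz, map_one])
    exact ⟨k, (algebraMap L Ω).injective (by rw [← hk, ← IsScalarTower.algebraMap_apply])⟩
  · exact centre_ne_top W hW L
      (Ideal.eq_top_of_isUnit_mem _ (not_isUnit_act_sub W hW hI L s a) hu)

end Finite

include hW hI hr in
theorem main [IsSepClosure K Ω] :
    (∃! L : IntermediateField K Ω, Module.finrank K L = r ∧ IsGalois K L) ∧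
      ∀ L : IntermediateField K Ω, Module.finrank K L = r → IsGalois K L →
        ∀ P : Ideal (integralClosure R L), P.IsMaximal → P.ramificationIdx R = r := by
  classical
  haveI : IsGalois K Ω := inferInstance
  haveI : IsSepClosed Ω := IsSepClosure.sep_closed K
  obtain ⟨ϖ, hϖ⟩ := IsDiscreteValuationRing.exists_irreducible R
  have hc0 : algebraMap K Ω (algebraMap R K ϖ) ≠ 0 := by
    rw [Ne, map_eq_zero, map_eq_zero_iff _ (IsFractionRing.injective R K)]
    exact hϖ.ne_zero
  have hrK : (r : K) ≠ 0 := by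
    have : IsUnit (r : R) := by rw [← residue_ne_zero_iff_isUnit, map_natCast]; exact hr.ne_zero
    have := this.map (algebraMap R K)
    rw [map_natCast] at this
    exact this.ne_zero
  have hrΩ : (r : Ω) ≠ 0 := by
    intro h
    refine hrK ((algebraMap K Ω).injective ?_)
    rw [map_natCast, h, map_zero]
  obtain ⟨ρ, hρroot⟩ := IsSepClosed.exists_root
    (Polynomial.X ^ r - Polynomial.C (algebraMap K Ω (algebraMap R K ϖ)))
    (by rw [Polynomial.degree_X_pow_sub_C (NeZero.pos r)]; exact_mod_cast NeZero.ne r)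
    (Polynomial.separable_X_pow_sub_C _ hrΩ hc0)
  have hρ : ρ ^ r = algebraMap K Ω (algebraMap R K ϖ) := by
    simpa [Polynomial.IsRoot, sub_eq_zero] using hρroot
  have hρ0 : ρ ≠ 0 := fun h => hc0 (by rw [← hρ, h, zero_pow (NeZero.ne r)])
  let L₀ : IntermediateField K Ω := IntermediateField.adjoin K {ρ}
  have hρL : ρ ∈ L₀ := IntermediateField.mem_adjoin_simple_self K ρ
  haveI : FiniteDimensional K L₀ :=
    IntermediateField.adjoin.finiteDimensional (Algebra.IsIntegral.isIntegral ρ)
  haveI : Normal K L₀ := by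
    rw [IntermediateField.normal_iff_forall_map_le']
    intro σ
    rw [IntermediateField.adjoin_map]
    refine IntermediateField.adjoin_le_iff.mpr ?_
    rintro _ ⟨x, hx, rfl⟩
    rw [Set.mem_singleton_iff.mp hx]
    have hz : (σ ρ / ρ) ^ r = 1 := by
      rw [div_pow, ← map_pow, hρ, AlgEquiv.commutes, div_self hc0]
    obtain ⟨k, hk⟩ := root_mem_of_inertia (R := R) W hW hI r hr hz
    have e : σ ρ = algebraMap K Ω k * ρ := by rw [hk, div_mul_cancel₀ _ hρ0]
    show σ ρ ∈ L₀
    rw [e]
    exact L₀.mul_mem (L₀.algebraMap_mem k) hρL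
  haveI : Algebra.IsSeparable K L₀ := Algebra.isSeparable_tower_bot_of_isSeparable K L₀ Ω
  haveI : IsGalois K L₀ := ⟨⟩
  let ρ₀ : L₀ := ⟨ρ, hρL⟩
  have hρ₀ : ρ₀ ^ r = algebraMap K L₀ (algebraMap R K ϖ) := Subtype.ext (by
    rw [SubmonoidClass.coe_pow]; exact hρ)
  have hμ₀ : ∀ z : L₀, z ^ r = 1 → z ∈ (algebraMap K L₀).range := fun z hz => by
    obtain ⟨k, hk⟩ := root_mem_of_inertia (R := R) W hW hI r hr
      (show (algebraMap L₀ Ω z) ^ r = 1 by rw [← map_pow, hz, map_one])
    exact ⟨k, (algebraMap L₀ Ω).injective (by rw [← hk, ← IsScalarTower.algebraMap_apply])⟩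
  obtain ⟨χ, hχ, hχs⟩ := exists_character' (R := R) r ϖ hϖ ρ₀ hρ₀ hμ₀
    (fun x hx => (IsGalois.mem_range_algebraMap_iff_fixed x).mpr hx)
  have hle : Module.finrank K L₀ ≤ r := by
    rw [IntermediateField.adjoin.finrank (Algebra.IsIntegral.isIntegral ρ)]
    refine le_trans (Polynomial.natDegree_le_of_dvd (minpoly.dvd K ρ ?_)
      (Polynomial.monic_X_pow_sub_C (algebraMap R K ϖ) (NeZero.ne r)).ne_zero)
      Polynomial.natDegree_X_pow_sub_C.le
    simp [hρ]
  have hge : r ≤ Module.finrank K L₀ := by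
    rw [← IsGalois.card_aut_eq_finrank]
    refine le_trans ?_ (Nat.card_le_card_of_surjective _ hχs)
    refine Nat.le_of_dvd Nat.card_pos ?_
    refine dvd_of_pow_mem_dvr (R := R) r ϖ hϖ ρ₀ hρ₀
      ((IsGalois.mem_range_algebraMap_iff_fixed _).mpr fun s => ?_)
    rw [map_pow, ← hχ s, mul_pow, ← Units.val_pow_eq_pow_val, ← SubgroupClass.coe_pow,
      pow_card_eq_one']
    simp
  have hdim : Module.finrank K L₀ = r := le_antisymm hle hge
  have huniq : ∀ L : IntermediateField K Ω, Module.finrank K L = r → IsGalois K L → L = L₀ := by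
    intro L hL hGal
    haveI : FiniteDimensional K L := Module.finite_of_finrank_pos (hL ▸ NeZero.pos r)
    let N : IntermediateField K Ω := L ⊔ L₀
    haveI : IsGalois K N := inferInstanceAs (IsGalois K (L ⊔ L₀ : IntermediateField K Ω))
    have hρN : ρ ∈ N := (le_sup_right : L₀ ≤ N) hρL
    have hle' : L ≤ L₀ := by
      rw [← InfiniteGalois.fixedField_fixingSubgroup L₀]
      intro x hx
      rw [IntermediateField.mem_fixedField_iff]
      intro σ hσ
      have hσρ : σ ρ = ρ := (IntermediateField.mem_fixingSubgroup_iff _ _).mp hσ ρ hρL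
      let res : (Ω ≃ₐ[K] Ω) →* (N ≃ₐ[K] N) := AlgEquiv.restrictNormalHom N
      have hres : ∀ (g : Ω ≃ₐ[K] Ω) (y : N), ((res g y : N) : Ω) = g (y : Ω) := fun g y =>
        AlgEquiv.restrictNormal_commutes g N y
      obtain ⟨τ, ν, hτν⟩ := exists_pow_of_fix W hW hI r hr N ϖ hϖ ⟨ρ, hρN⟩
        (Subtype.ext (by rw [SubmonoidClass.coe_pow]; exact hρ)) (res σ)
        (Subtype.ext (by rw [hres]; exact hσρ))
      obtain ⟨τ', hτ'⟩ := AlgEquiv.restrictNormalHom_surjective (F := K) (K₁ := N) Ω τ
      obtain ⟨ν', hν'⟩ := AlgEquiv.restrictNormalHom_surjective (F := K) (K₁ := N) Ω ν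
      have h1 : res σ = res (τ' ^ r * ν' ^ r) := by
        rw [map_mul, map_pow, map_pow, ← hτν]
        exact congrArg₂ (fun a b => a ^ r * b ^ r) hτ'.symm hν'.symm
      have h2 : σ x = (τ' ^ r * ν' ^ r) x := by
        have := DFunLike.congr_fun h1 ⟨x, (le_sup_left : L ≤ N) hx⟩
        rw [← hres σ ⟨x, (le_sup_left : L ≤ N) hx⟩, this, hres]
      have h3 : ∀ g : Ω ≃ₐ[K] Ω, (g ^ r) x = x := fun g => by
        have hg : AlgEquiv.restrictNormalHom L (g ^ r) = 1 := by
          have hcard : Nat.card (L ≃ₐ[K] L) = r := by rw [IsGalois.card_aut_eq_finrank, hL]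
          rw [map_pow]
          exact (congrArg (fun m : ℕ => (AlgEquiv.restrictNormalHom L) g ^ m) hcard.symm).trans
            pow_card_eq_one'
        have := AlgEquiv.restrictNormal_commutes (g ^ r) L ⟨x, hx⟩
        rw [show (g ^ r).restrictNormal L = 1 from hg] at this
        exact this.symm
      rw [h2, AlgEquiv.mul_apply, h3, h3]
    exact IntermediateField.eq_of_le_of_finrank_eq hle' (by rw [hL, hdim])
  refine ⟨⟨L₀, ⟨hdim, inferInstance⟩, fun L hL => huniq L hL.1 hL.2⟩, ?_⟩
  intro L hL hGal P hP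
  obtain rfl := huniq L hL hGal
  let V := integralClosure R L₀
  haveI : IsIntegralClosure V R L₀ := integralClosure.isIntegralClosure R L₀
  haveI : IsFractionRing V L₀ := IsIntegralClosure.isFractionRing_of_finite_extension R K L₀ V
  haveI : IsDedekindDomain V := integralClosure.isDedekindDomain R K L₀
  haveI : Module.Finite R V := IsIntegralClosure.finite R K L₀ V
  have hinjV : Function.Injective (algebraMap R V) := by
    intro a b h
    have := congrArg (fun z : V => (z : L₀)) h
    refine IsFractionRing.injective R K ((algebraMap K L₀).injective ?_)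
    rw [← IsScalarTower.algebraMap_apply R K L₀, ← IsScalarTower.algebraMap_apply R K L₀]
    exact this
  haveI : FaithfulSMul R V := (faithfulSMul_iff_algebraMap_injective R V).mpr hinjV
  haveI : IsLocalRing V := isLocalRing_integralClosure W hW hI L₀
  haveI : P.LiesOver (maximalIdeal R) := by
    constructor
    exact (IsLocalRing.eq_maximalIdeal (Ideal.isMaximal_comap_of_isIntegral_of_isMaximal P)).symm
  have hmap : (maximalIdeal R).map (algebraMap R V) ≠ ⊥ :=
    Ideal.map_ne_bot_of_ne_bot (IsDiscreteValuationRing.not_a_field R)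
  have hup : P.ramificationIdx R ≤ r := by
    rw [← Ideal.ramificationIdx'_eq_ramificationIdx (maximalIdeal R) P
      (IsDiscreteValuationRing.not_a_field R), ← hdim]
    haveI : NoZeroSMulDivisors R V := ⟨fun {c x} h => by
      rw [Algebra.smul_def, mul_eq_zero, map_eq_zero_iff _ hinjV] at h; exact h⟩
    exact Ideal.ramificationIdx_le_finrank V K L₀ P
  refine le_antisymm hup ?_
  rw [Ideal.IsDedekindDomain.ramificationIdx_eq_multiplicity (maximalIdeal R) P hmap]
  have hPne : P ≠ ⊥ := fun h => by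
    subst h
    exact hmap (le_bot_iff.mp (Ideal.map_le_of_le_comap
      ((inferInstance : (⊥ : Ideal V).LiesOver (maximalIdeal R)).over.le)))
  refine FiniteMultiplicity.le_multiplicity_of_pow_dvd
    (FiniteMultiplicity.of_prime_left (Ideal.prime_of_isPrime hPne inferInstance) hmap) ?_
  rw [Ideal.dvd_iff_le, hϖ.maximalIdeal_eq, Ideal.map_span, Set.image_singleton,
    Ideal.span_singleton_le_iff_mem]
  have hρint : IsIntegral R ρ₀ := IsIntegral.of_pow (NeZero.pos r) (by
    rw [hρ₀, ← IsScalarTower.algebraMap_apply]; exact isIntegral_algebraMap)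
  let ρV : V := ⟨ρ₀, hρint⟩
  have hρV : ρV ^ r = algebraMap R V ϖ := Subtype.ext (by
    show ρ₀ ^ r = algebraMap R L₀ ϖ
    rw [hρ₀, ← IsScalarTower.algebraMap_apply])
  rw [← hρV]
  refine Ideal.pow_mem_pow ?_ r
  refine (inferInstance : P.IsPrime).mem_of_pow_mem r ?_
  rw [hρV, ← Ideal.mem_comap]
  exact ((inferInstance : P.LiesOver (maximalIdeal R)).over).le
    ((IsLocalRing.mem_maximalIdeal ϖ).mpr hϖ.not_isUnit)

end Tame97
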