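import Mathlib
import Groth.Agent.E4O.LocalFinite

/-!
# The tame fundamental character of a strictly henselian discrete valuation ring
-/

set_option autoImplicit false

universe u

namespace Tame97

open Polynomial IsLocalRing

section Finite

variable {R : Type u} [CommRing R] [IsDomain R] [IsDiscreteValuationRing R] [HenselianLocalRing R]
  [IsSepClosed (ResidueField R)]
  {K : Type u} [Field K] [Algebra R K] [IsFractionRing R K]

/-- The `r`-th roots of unity lie in `K` when `r` is invertible in the residue field. -/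
theorem root_mem_range {E : Type u} [Field E] [Algebra K E] (r : ℕ) [NeZero r]
    (hr : IsUnit (r : ResidueField R)) {z : E} (hz : z ^ r = 1) :
    z ∈ (algebraMap K E).range := by
  classical
  haveI : NeZero (r : ResidueField R) := ⟨hr.ne_zero⟩
  have hsplit : ((X ^ r - C 1 : (ResidueField R)[X])).Splits :=
    IsSepClosed.splits_of_separable _ (separable_X_pow_sub_C 1 hr.ne_zero one_ne_zero)
  have hcard : ((X ^ r - C 1 : (ResidueField R)[X]).roots).toFinset.card = r := by
    rw [Multiset.toFinset_card_of_nodup (nodup_roots (separable_X_pow_sub_C 1 hr.ne_zero one_ne_zero)),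
      ← hsplit.natDegree_eq_card_roots, natDegree_X_pow_sub_C]
  have hlift : ∀ a ∈ ((X ^ r - C 1 : (ResidueField R)[X]).roots).toFinset,
      ∃ b : R, b ^ r = 1 ∧ residue R b = a := by
    intro a ha
    rw [Multiset.mem_toFinset, mem_roots (monic_X_pow_sub_C 1 (NeZero.ne r)).ne_zero] at ha
    have ha' : a ^ r = 1 := by simpa [IsRoot, sub_eq_zero] using ha
    obtain ⟨a₀, rfl⟩ := residue_surjective a
    have hf : (X ^ r - C 1 : R[X]).Monic := monic_X_pow_sub_C 1 (NeZero.ne r)
    have h1 : (X ^ r - C 1 : R[X]).eval a₀ ∈ maximalIdeal R := by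
      rw [← residue_eq_zero_iff]
      simp [ha']
    have h2 : IsUnit ((X ^ r - C 1 : R[X]).derivative.eval a₀) := by
      rw [← residue_ne_zero_iff_isUnit]
      simp only [derivative_sub, derivative_X_pow, derivative_C, sub_zero, eval_mul, eval_C,
        eval_pow, eval_X, eval_natCast, map_mul, map_pow, map_natCast]
      exact mul_ne_zero hr.ne_zero (pow_ne_zero _ fun h => by
        rw [h, zero_pow (NeZero.ne r)] at ha'; exact zero_ne_one ha')
    obtain ⟨b, hb, hba⟩ := HenselianLocalRing.is_henselian _ hf a₀ h1 h2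
    refine ⟨b, by simpa [IsRoot, sub_eq_zero] using hb, ?_⟩
    rw [← sub_eq_zero, ← map_sub, residue_eq_zero_iff]
    exact hba
  choose b hb1 hb2 using hlift
  let s : Finset E := ((X ^ r - C 1 : (ResidueField R)[X]).roots).toFinset.attach.image
    fun a => algebraMap K E (algebraMap R K (b a.1 a.2))
  have hinj : Function.Injective (fun a : {a // a ∈ ((X ^ r - C 1 : (ResidueField R)[X]).roots).toFinset} =>
      algebraMap K E (algebraMap R K (b a.1 a.2))) := by
    intro a a' h
    have := (algebraMap K E).injective h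
    have := IsFractionRing.injective R K this
    exact Subtype.ext (by rw [← hb2 a.1 a.2, ← hb2 a'.1 a'.2, this])
  have hs : s.card = r := by
    rw [Finset.card_image_of_injective _ hinj, Finset.card_attach, hcard]
  have hsub : s ⊆ (nthRoots r (1 : E)).toFinset := by
    intro x hx
    obtain ⟨a, -, rfl⟩ := Finset.mem_image.mp hx
    rw [Multiset.mem_toFinset, mem_nthRoots (NeZero.pos r), ← map_pow, ← map_pow, hb1, map_one,
      map_one]
  have heq := Finset.eq_of_subset_of_card_le hsub
    (by rw [hs]; exact (Multiset.toFinset_card_le _).trans (card_nthRoots r (1 : E)))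
  have : z ∈ s := by rw [heq, Multiset.mem_toFinset, mem_nthRoots (NeZero.pos r)]; exact hz
  obtain ⟨a, -, rfl⟩ := Finset.mem_image.mp this
  exact ⟨_, rfl⟩

variable {E : Type u} [Field E] [Algebra K E] (r : ℕ) [NeZero r] (hr : IsUnit (r : ResidueField R))
  (ϖ : R) (hϖ : Irreducible ϖ) (ρ : E) (hρ : ρ ^ r = algebraMap K E (algebraMap R K ϖ))

include hρ hϖ in
theorem rho_ne_zero : ρ ≠ 0 := by
  intro h
  rw [h, zero_pow (NeZero.ne r), eq_comm, map_eq_zero,
    map_eq_zero_iff _ (IsFractionRing.injective R K)] at hρ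
  exact hϖ.ne_zero hρ

include hρ hϖ in
/-- `ρ ^ d` is in `K` only when `r ∣ d`. -/
theorem dvd_of_pow_mem {d : ℕ} (hd : ρ ^ d ∈ (algebraMap K E).range) : r ∣ d := by
  obtain ⟨k, hk⟩ := hd
  have hkr : k ^ r = algebraMap R K (ϖ ^ d) := (algebraMap K E).injective (by
    rw [map_pow, hk, map_pow, map_pow, ← hρ, ← pow_mul, ← pow_mul, mul_comm])
  obtain ⟨x, rfl⟩ := (IsIntegrallyClosed.isIntegral_iff (R := R)).mp
    (IsIntegral.of_pow (NeZero.pos r) (hkr ▸ isIntegral_algebraMap : IsIntegral R (k ^ r)))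
  have hx : x ^ r = ϖ ^ d := IsFractionRing.injective R K (by rw [map_pow]; exact hkr)
  have hx0 : x ≠ 0 := fun h => by
    rw [h, zero_pow (NeZero.ne r), eq_comm] at hx
    exact pow_ne_zero d hϖ.ne_zero hx
  obtain ⟨n, u, hu⟩ := IsDiscreteValuationRing.eq_unit_mul_pow_irreducible hx0 hϖ
  rw [hu, mul_pow, ← Units.val_pow_eq_pow_val, ← pow_mul] at hx
  have := IsDiscreteValuationRing.unit_mul_pow_congr_pow hϖ hϖ (u ^ r) 1 (n * r) d
    (by simpa using hx)
  exact ⟨n, by rw [← this, mul_comm]⟩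

include hρ hϖ hr in
/-- Existence of the fundamental character, with all its properties. -/
theorem exists_character (hfix : ∀ x : E, (∀ s : E ≃ₐ[K] E, s x = x) → x ∈ (algebraMap K E).range) :
    ∃ χ : (E ≃ₐ[K] E) →* rootsOfUnity r E,
      (∀ s, ((χ s : Eˣ) : E) * ρ = s ρ) ∧ Function.Surjective χ := by
  classical
  have hρ0 := rho_ne_zero r ϖ hϖ ρ hρ
  have hmem : ∀ s : E ≃ₐ[K] E, Units.mk0 (s ρ / ρ)
      (div_ne_zero (by simpa using hρ0) hρ0) ∈ rootsOfUnity r E := by
    intro s
    rw [mem_rootsOfUnity']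
    rw [Units.val_mk0, div_pow, ← map_pow, hρ, AlgEquiv.commutes,
      div_self (by rw [← hρ]; exact pow_ne_zero r hρ0)]
  have hval : ∀ s : E ≃ₐ[K] E,
      (((⟨_, hmem s⟩ : rootsOfUnity r E) : Eˣ) : E) * ρ = s ρ := fun s => by
    simp [div_mul_cancel₀ _ hρ0]
  have hfixζ : ∀ (s : E ≃ₐ[K] E) (z : rootsOfUnity r E), s ((z : Eˣ) : E) = ((z : Eˣ) : E) := by
    intro s z
    obtain ⟨k, hk⟩ := root_mem_range (R := R) (K := K) r hr
      (show ((z : Eˣ) : E) ^ r = 1 by rw [← mem_rootsOfUnity']; exact z.2)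
    rw [← hk, AlgEquiv.commutes]
  let χ : (E ≃ₐ[K] E) →* rootsOfUnity r E :=
    MonoidHom.mk' (fun s => ⟨_, hmem s⟩) fun s t => by
      refine Subtype.ext (Units.ext (mul_right_cancel₀ hρ0 ?_))
      rw [hval (s * t)]
      show s (t ρ) = _
      conv_lhs => rw [← hval t, map_mul, hfixζ, ← hval s]
      simp only [Subgroup.coe_mul, Units.val_mul]
      ring
  refine ⟨χ, fun s => hval s, ?_⟩
  set d := Nat.card χ.range with hd
  have hfixd : ∀ s : E ≃ₐ[K] E, s (ρ ^ d) = ρ ^ d := by
    intro s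
    rw [map_pow, ← hval s, mul_pow]
    have h1 : (⟨χ s, ⟨s, rfl⟩⟩ : χ.range) ^ d = 1 := pow_card_eq_one'
    have h2 : (((χ s : rootsOfUnity r E) : Eˣ) : E) ^ d = 1 := by
      have := congrArg (fun z : χ.range => (((z : rootsOfUnity r E) : Eˣ) : E)) h1
      simpa using this
    rw [show (((⟨_, hmem s⟩ : rootsOfUnity r E) : Eˣ) : E) = (((χ s : rootsOfUnity r E) : Eˣ) : E) from rfl,
      h2, one_mul]
  have hdvd := dvd_of_pow_mem (R := R) (K := K) r ϖ hϖ ρ hρ (hfix _ hfixd)
  have hle : Nat.card (rootsOfUnity r E) ≤ r := card_rootsOfUnity E r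
  have hdle : r ≤ d := Nat.le_of_dvd (by rw [hd]; exact Nat.card_pos) hdvd
  exact MonoidHom.range_eq_top.mp (Subgroup.eq_top_of_le_card _ (by omega))

end Finite

end Tame97
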