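import Groth.Agent.Tame97.Character

/-!
# The kernel of the fundamental character at a finite level
-/

set_option autoImplicit false

universe u

namespace Tame97

open IsLocalRing

section Local

variable {V : Type u} [CommRing V] [IsDomain V] [IsDiscreteValuationRing V]

/-- An automorphism of finite order invertible in the residue field, fixing a uniformizer modulo
`𝔪²` and acting trivially on the residue field, is the identity. -/
theorem eq_one_of_tame (w : V ≃+* V) (q : ℕ) (hq : IsUnit (q : V)) (hw : w ^ q = 1)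
    (hres : ∀ a, w a - a ∈ maximalIdeal V) (p : V) (hp : Irreducible p)
    (hwp : w p - p ∈ maximalIdeal V ^ 2) : w = 1 := by
  classical
  have hmax : maximalIdeal V = Ideal.span {p} := hp.maximalIdeal_eq
  obtain ⟨qi, hqi⟩ := isUnit_iff_exists_inv.mp hq
  let Ew : V → V := fun a => qi * ∑ j ∈ Finset.range q, (w ^ j) a
  have hfix : ∀ a, w (Ew a) = Ew a := by
    intro a
    have hqi' : w qi = qi := by
      have h1 : (q : V) * w qi = 1 := by rw [← map_natCast w q, ← map_mul, hqi, map_one]
      exact hq.mul_left_cancel (h1.trans hqi.symm)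
    simp only [Ew, map_mul, hqi', map_sum]
    congr 1
    have h1 : ∀ j, w ((w ^ j) a) = (w ^ (j + 1)) a := fun j => by rw [pow_succ']; rfl
    simp only [h1]
    have h2 := Finset.sum_range_succ' (fun j => (w ^ j) a) q
    have h3 := Finset.sum_range_succ (fun j => (w ^ j) a) q
    rw [h3, hw, pow_zero] at h2
    exact add_right_cancel h2.symm
  have hE : ∀ a (I : Ideal V), (∀ j, (w ^ j) a - a ∈ I) → Ew a - a ∈ I := by
    intro a I hI
    have : Ew a - a = qi * ∑ j ∈ Finset.range q, ((w ^ j) a - a) := by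
      simp only [Ew, Finset.sum_sub_distrib, Finset.sum_const, Finset.card_range, nsmul_eq_mul]
      linear_combination a * hqi
    rw [this]
    exact Ideal.mul_mem_left _ _ (Ideal.sum_mem _ fun j _ => hI j)
  have hpowres : ∀ j a, (w ^ j) a - a ∈ maximalIdeal V := by
    intro j
    induction j with
    | zero => intro a; rw [pow_zero]; show a - a ∈ _; rw [sub_self]; exact Ideal.zero_mem _
    | succ j ih =>
      intro a
      rw [pow_succ]
      show (w ^ j) (w a) - a ∈ _
      rw [show (w ^ j) (w a) - a = ((w ^ j) (w a) - w a) + (w a - a) by ring]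
      exact Ideal.add_mem _ (ih _) (hres a)
  have hwmax : ∀ j, ∀ x ∈ maximalIdeal V, (w ^ j) x ∈ maximalIdeal V := fun j x hx => by
    simpa using Ideal.add_mem _ (hpowres j x) hx
  have hpowp : ∀ j, (w ^ j) p - p ∈ maximalIdeal V ^ 2 := by
    intro j
    induction j with
    | zero => rw [pow_zero]; show p - p ∈ _; rw [sub_self]; exact Ideal.zero_mem _
    | succ j ih =>
      rw [pow_succ]
      show (w ^ j) (w p) - p ∈ _
      rw [show (w ^ j) (w p) - p = (w ^ j) (w p - p) + ((w ^ j) p - p) by rw [map_sub]; ring]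
      refine Ideal.add_mem _ ?_ ih
      have hle : maximalIdeal V ^ 2 ≤ (maximalIdeal V ^ 2).comap ((w ^ j : V ≃+* V) : V →+* V) :=
        le_trans (Ideal.pow_right_mono (fun x hx => Ideal.mem_comap.mpr (hwmax j x hx)) 2)
          (Ideal.le_comap_pow _ 2)
      exact hle hwp
  set x := Ew p with hx
  have hxp : x - p ∈ maximalIdeal V ^ 2 := hE p _ hpowp
  have hxirr : Irreducible x := by
    obtain ⟨t, ht⟩ : p ^ 2 ∣ x - p := by
      rwa [hmax, Ideal.span_singleton_pow, Ideal.mem_span_singleton] at hxp
    have hu : IsUnit (1 + p * t) := by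
      by_contra h
      have h1 : (1 + p * t) ∈ maximalIdeal V := (mem_maximalIdeal _).mpr h
      have h2 : p * t ∈ maximalIdeal V :=
        Ideal.mul_mem_right _ _ (hmax ▸ Ideal.mem_span_singleton_self p)
      have := Ideal.sub_mem _ h1 h2
      simp at this
    rw [show x = p * (1 + p * t) by linear_combination ht]
    exact (irreducible_mul_isUnit hu).mpr hp
  have hstep : ∀ (N : ℕ) (a : V), w a - a ∈ maximalIdeal V ^ N := by
    intro N
    induction N with
    | zero => intro a; simp
    | succ N ih =>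
      intro a
      have h1 : Ew a - a ∈ maximalIdeal V := hE a _ fun j => hpowres j a
      obtain ⟨a₁, ha₁⟩ : x ∣ a - Ew a := by
        rw [← Ideal.mem_span_singleton, ← hxirr.maximalIdeal_eq]
        simpa using Ideal.neg_mem_iff _ |>.mpr h1
      have : w a - a = x * (w a₁ - a₁) := by
        have e : a = Ew a + x * a₁ := by linear_combination ha₁
        have e2 : w a = Ew a + x * w a₁ := by
          calc w a = w (Ew a + x * a₁) := congrArg w e
            _ = w (Ew a) + w x * w a₁ := by rw [map_add w (Ew a) (x * a₁), map_mul w x a₁]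
            _ = _ := by rw [hfix a, show w x = x from hfix p]
        rw [e2]; linear_combination -ha₁
      rw [this, pow_succ']
      exact Ideal.mul_mem_mul (hxirr.maximalIdeal_eq ▸ Ideal.mem_span_singleton_self x) (ih a₁)
  refine RingEquiv.ext fun a => ?_
  show w a = a
  rw [← sub_eq_zero]
  have hbot : ⨅ N, maximalIdeal V ^ N = ⊥ :=
    Ideal.iInf_pow_eq_bot_of_isLocalRing _ (maximalIdeal.isMaximal V).ne_top
  rw [← Ideal.mem_bot, ← hbot, Ideal.mem_iInf]
  exact fun N => hstep N a

end Local

variable {R : Type u} [CommRing R] [IsDomain R] [IsDiscreteValuationRing R] [HenselianLocalRing R]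
  [IsSepClosed (ResidueField R)]
  {K : Type u} [Field K] [Algebra R K] [IsFractionRing R K]
  {L : Type u} [Field L] [Algebra K L] [FiniteDimensional K L] [IsGalois K L]
  (r : ℕ) [NeZero r] (hr : IsUnit (r : ResidueField R))
  (ϖ : R) (hϖ : Irreducible ϖ) (ρ : L) (hρ : ρ ^ r = algebraMap K L (algebraMap R K ϖ))

include hr hρ hϖ in
/-- An automorphism fixing `ρ` is a product of two `r`-th powers. -/
theorem exists_pow_mul_pow (σ : L ≃ₐ[K] L) (hσ : σ ρ = ρ) :
    ∃ τ ν : L ≃ₐ[K] L, τ ^ r * ν ^ r = σ := by
  classical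
  let _ : Algebra R L := ((algebraMap K L).comp (algebraMap R K)).toAlgebra
  haveI : IsScalarTower R K L := IsScalarTower.of_algebraMap_eq fun x => rfl
  let V := integralClosure R L
  haveI : IsIntegralClosure V R L := integralClosure.isIntegralClosure R L
  haveI : IsFractionRing V L := IsIntegralClosure.isFractionRing_of_finite_extension R K L V
  haveI : IsDedekindDomain V := integralClosure.isDedekindDomain R K L
  haveI : Module.Finite R V := IsIntegralClosure.finite R K L V
  haveI : HenselianRing R (maximalIdeal R) :=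
    inferInstanceAs (HenselianRing R (IsLocalRing.maximalIdeal R))
  haveI : IsLocalRing V := Groth.Agent.E4O.isLocalRing_of_finite_henselian (A := R)
  have hinjV : Function.Injective (algebraMap R V) := by
    intro a b h
    have := congrArg (fun z : V => (z : L)) h
    exact IsFractionRing.injective R K ((algebraMap K L).injective this)
  haveI : FaithfulSMul R V := (faithfulSMul_iff_algebraMap_injective R V).mpr hinjV
  have hnf : ¬ IsField V := fun h => IsDiscreteValuationRing.not_isField R
    (isField_of_isIntegral_of_isField hinjV h)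
  haveI : IsNoetherianRing V := inferInstance
  haveI : IsDiscreteValuationRing V :=
    ((IsDiscreteValuationRing.TFAE V hnf).out 2 0).mp (inferInstance : IsDedekindDomain V)
  obtain ⟨p, hp⟩ := IsDiscreteValuationRing.exists_irreducible V
  let act : (L ≃ₐ[K] L) ≃* (V ≃ₐ[R] V) := galRestrict R K L V
  haveI : IsLocalHom (algebraMap R V) := (Algebra.IsIntegral.isLocalHom (R := R) (S := V))
  have hres : ∀ (s : L ≃ₐ[K] L) (a : V), act s a - a ∈ maximalIdeal V := by
    intro s a
    let sb : ResidueField V →ₐ[ResidueField R] ResidueField V :=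
      { ResidueField.map ((act s : V ≃ₐ[R] V) : V →+* V) with
        commutes' := fun b => by
          obtain ⟨b, rfl⟩ := residue_surjective b
          show ResidueField.map _ (residue V (algebraMap R V b)) = residue V (algebraMap R V b)
          rw [ResidueField.map_residue]
          exact congrArg _ ((act s).commutes b) }
    haveI : IsPurelyInseparable (ResidueField R) (ResidueField V) := inferInstance
    have hsb : sb = AlgHom.id _ _ := Subsingleton.elim _ _
    rw [← residue_eq_zero_iff, map_sub, sub_eq_zero]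
    have := DFunLike.congr_fun hsb (residue V a)
    exact this
  have hu : ∀ s : L ≃ₐ[K] L, ∃ u : Vˣ, act s p = u * p := by
    intro s
    have hirr : Irreducible (act s p) := (MulEquiv.irreducible_iff (act s)).mpr hp
    obtain ⟨u, hu⟩ := IsDiscreteValuationRing.associated_of_irreducible V hp hirr
    exact ⟨u, by rw [← hu, mul_comm]⟩
  choose u hu using hu
  let θ : (L ≃ₐ[K] L) →* (ResidueField V)ˣ :=
    MonoidHom.mk' (fun s => (u s).map (residue V : V →* ResidueField V)) fun s t => by
      have h : (u (s * t) : V) = act s (u t) * u s := by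
        apply mul_right_cancel₀ hp.ne_zero
        rw [← hu, map_mul]
        show act s (act t p) = _
        rw [hu t, map_mul, hu s]; ring
      refine Units.ext ?_
      show residue V (u (s * t) : V) = residue V (u s : V) * residue V (u t : V)
      rw [h, map_mul, mul_comm]
      congr 1
      rw [← sub_eq_zero, ← map_sub, residue_eq_zero_iff]
      exact hres s _
  have hkerq : ∀ s : L ≃ₐ[K] L, θ s = 1 → ∀ q : ℕ, IsUnit (q : V) → s ^ q = 1 → s = 1 := by
    intro s hs q hq hsq
    have hu1 : (u s : V) - 1 ∈ maximalIdeal V := by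
      rw [← residue_eq_zero_iff, map_sub, map_one, sub_eq_zero]
      exact congrArg Units.val hs
    have hwp : act s p - p ∈ maximalIdeal V ^ 2 := by
      rw [hu, show (u s : V) * p - p = ((u s : V) - 1) * p by ring, pow_two]
      exact Ideal.mul_mem_mul hu1 ((mem_maximalIdeal _).mpr hp.not_isUnit)
    have hpowq : ∀ j : ℕ, ((act s : V ≃ₐ[R] V) : V ≃+* V) ^ j =
        ((act (s ^ j) : V ≃ₐ[R] V) : V ≃+* V) := by
      intro j
      induction j with
      | zero => rw [pow_zero, pow_zero, map_one]; rfl
      | succ j ih => rw [pow_succ, pow_succ, ih, map_mul]; rfl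
    have h1 : ((act s : V ≃ₐ[R] V) : V ≃+* V) = 1 :=
      eq_one_of_tame _ q hq (by rw [hpowq, hsq, map_one]; rfl) (hres s) p hp hwp
    have : act s = 1 := AlgEquiv.ext fun a => RingEquiv.congr_fun h1 a
    exact act.injective (this.trans (map_one act).symm)
  have hrV : IsUnit (r : V) := by
    have hrR : IsUnit (r : R) := by
      rw [← residue_ne_zero_iff_isUnit, map_natCast]; exact hr.ne_zero
    simpa using hrR.map (algebraMap R V)
  have hcop : (Nat.card θ.ker).Coprime r := by
    by_contra hnc
    obtain ⟨q, hqprime, hq1, hq2⟩ := Nat.Prime.not_coprime_iff_dvd.mp hnc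
    haveI := Fact.mk hqprime
    obtain ⟨⟨s, hs⟩, hord⟩ := exists_prime_orderOf_dvd_card' q hq1
    have hsq : s ^ q = 1 := by
      have := pow_orderOf_eq_one (⟨s, hs⟩ : θ.ker)
      rw [hord] at this
      exact congrArg Subtype.val this
    have hqu : IsUnit (q : V) := isUnit_of_dvd_unit (Nat.cast_dvd_cast hq2) hrV
    have := hkerq s hs q hqu hsq
    subst this
    rw [show (⟨1, hs⟩ : θ.ker) = 1 from rfl, orderOf_one] at hord
    exact hqprime.ne_one hord.symm
  obtain ⟨χ, hχ, hχs⟩ := exists_character (R := R) r hr ϖ hϖ ρ hρ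
    (fun x hx => (IsGalois.mem_range_algebraMap_iff_fixed x).mpr hx)
  have hρ0 := rho_ne_zero r ϖ hϖ ρ hρ
  have hχσ : χ σ = 1 := Subtype.ext (Units.ext (mul_right_cancel₀ hρ0 (by
    rw [hχ, hσ]; simp)))
  have hW : ∀ w : L ≃ₐ[K] L, θ w = 1 → ∃ ν, θ ν = 1 ∧ ν ^ r = w := by
    intro w hw
    refine ⟨((powCoprime hcop).symm ⟨w, hw⟩ : θ.ker), ((powCoprime hcop).symm ⟨w, hw⟩).2, ?_⟩
    exact congrArg Subtype.val ((powCoprime hcop).apply_symm_apply ⟨w, hw⟩)
  have hχW : ∀ w : L ≃ₐ[K] L, θ w = 1 → χ w = 1 := by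
    intro w hw
    obtain ⟨ν, -, rfl⟩ := hW w hw
    rw [map_pow]
    exact Subtype.ext (Units.ext (by
      rw [SubgroupClass.coe_pow, Units.val_pow_eq_pow_val]
      simpa using (mem_rootsOfUnity' r _).mp (χ ν).2))
  haveI : IsCyclic θ.range := isCyclic_subgroup_units _
  obtain ⟨⟨_, τ₀, rfl⟩, hgen⟩ := IsCyclic.exists_generator (α := θ.range)
  have hdec : ∀ s, ∃ (j : ℤ) (w : L ≃ₐ[K] L), θ w = 1 ∧ s = τ₀ ^ j * w := by
    intro s
    obtain ⟨j, hj⟩ := Subgroup.mem_zpowers_iff.mp (hgen ⟨θ s, s, rfl⟩)
    have hj' : θ τ₀ ^ j = θ s := by simpa using congrArg Subtype.val hj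
    exact ⟨j, (τ₀ ^ j)⁻¹ * s, by rw [map_mul, map_inv, map_zpow, hj', inv_mul_cancel],
      (mul_inv_cancel_left _ _).symm⟩
  have hord : r ∣ orderOf (χ τ₀) := by
    refine dvd_of_pow_mem (R := R) (K := K) r ϖ hϖ ρ hρ ((IsGalois.mem_range_algebraMap_iff_fixed _).mpr fun s => ?_)
    obtain ⟨j, w, hw, rfl⟩ := hdec s
    have h1 : χ (τ₀ ^ j * w) ^ orderOf (χ τ₀) = 1 := by
      rw [map_mul, hχW w hw, mul_one, map_zpow, ← zpow_natCast, ← zpow_mul, mul_comm, zpow_mul,
        zpow_natCast, pow_orderOf_eq_one, one_zpow]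
    rw [map_pow, ← hχ, mul_pow, ← Units.val_pow_eq_pow_val, ← SubgroupClass.coe_pow, h1]
    simp
  obtain ⟨j, w, hw, rfl⟩ := hdec σ
  rw [map_mul, hχW w hw, mul_one, map_zpow] at hχσ
  obtain ⟨i, hi⟩ := dvd_trans (Int.natCast_dvd_natCast.mpr hord) (orderOf_dvd_iff_zpow_eq_one.mpr hχσ)
  obtain ⟨ν, -, hν⟩ := hW w hw
  exact ⟨τ₀ ^ i, ν, by rw [hν, ← zpow_natCast, ← zpow_mul, mul_comm i, ← hi]⟩

end Tame97
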