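import Groth.Agent.Tame97.Finite

/-!
# The tame character without henselianity: one valuation subring fixed by inertia
-/

set_option autoImplicit false

universe u

namespace Tame97

open IsLocalRing

variable {R : Type u} [CommRing R] [IsDomain R] [IsDiscreteValuationRing R]
  {K : Type u} [Field K] [Algebra R K] [IsFractionRing R K]

section Char

variable {E : Type u} [Field E] [Algebra K E] (r : ℕ) [NeZero r] 
  (ϖ : R) (hϖ : Irreducible ϖ) (ρ : E) (hρ : ρ ^ r = algebraMap K E (algebraMap R K ϖ))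

include hρ hϖ in
theorem rho_ne_zero_dvr : ρ ≠ 0 := by
  intro h
  rw [h, zero_pow (NeZero.ne r), eq_comm, map_eq_zero,
    map_eq_zero_iff _ (IsFractionRing.injective R K)] at hρ
  exact hϖ.ne_zero hρ

include hρ hϖ in
/-- `ρ ^ d` is in `K` only when `r ∣ d`. -/
theorem dvd_of_pow_mem_dvr {d : ℕ} (hd : ρ ^ d ∈ (algebraMap K E).range) : r ∣ d := by
  obtain ⟨k, hk⟩ := hd
  have hkr : k ^ r = algebraMap R K (ϖ ^ d) := (algebraMap K E).injective (by
    rw [map_pow, hk, map_pow, map_pow, ← hρ, ← pow_mul, ← pow_mul, mul_comm])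
  obtain ⟨x, rfl⟩ := (IsIntegrallyClosed.isIntegral_iff (R := R)).mp
    (IsIntegral.of_pow (NeZero.pos r) (hkr ▸ isIntegral_algebraMap : IsIntegral R (k ^ r)))
  have hx : x ^ r = ϖ ^ d := IsFractionRing.injective R K (by rw [map_pow]; exact hkr)
  have hx0 : x ≠ 0 := fun h => by
    rw [h, zero_pow (NeZero.ne r), eq_comm] at hx
    exact pow_ne_zero d hϖ.ne_zero hx
  obtain ⟨n, u, hu⟩ := IsDiscreteValuationRing.eq_unit_mul_pow_irreducible hx0 hϖ
  rw [hu, mul_pow, ← Units.val_pow_eq_pow_val, ← pow_mul] at hx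
  have := IsDiscreteValuationRing.unit_mul_pow_congr_pow hϖ hϖ (u ^ r) 1 (n * r) d
    (by simpa using hx)
  exact ⟨n, by rw [← this, mul_comm]⟩

include hρ hϖ in
/-- Existence of the fundamental character, with all its properties. -/
theorem exists_character'
    (hμ : ∀ z : E, z ^ r = 1 → z ∈ (algebraMap K E).range) (hfix : ∀ x : E, (∀ s : E ≃ₐ[K] E, s x = x) → x ∈ (algebraMap K E).range) :
    ∃ χ : (E ≃ₐ[K] E) →* rootsOfUnity r E,
      (∀ s, ((χ s : Eˣ) : E) * ρ = s ρ) ∧ Function.Surjective χ := by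
  classical
  have hρ0 := rho_ne_zero_dvr r ϖ hϖ ρ hρ
  have hmem : ∀ s : E ≃ₐ[K] E, Units.mk0 (s ρ / ρ)
      (div_ne_zero (by simpa using hρ0) hρ0) ∈ rootsOfUnity r E := by
    intro s
    rw [mem_rootsOfUnity']
    rw [Units.val_mk0, div_pow, ← map_pow, hρ, AlgEquiv.commutes,
      div_self (by rw [← hρ]; exact pow_ne_zero r hρ0)]
  have hval : ∀ s : E ≃ₐ[K] E,
      (((⟨_, hmem s⟩ : rootsOfUnity r E) : Eˣ) : E) * ρ = s ρ := fun s => by
    simp [div_mul_cancel₀ _ hρ0]
  have hfixζ : ∀ (s : E ≃ₐ[K] E) (z : rootsOfUnity r E), s ((z : Eˣ) : E) = ((z : Eˣ) : E) := by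
    intro s z
    obtain ⟨k, hk⟩ := hμ _
      (show ((z : Eˣ) : E) ^ r = 1 by rw [← mem_rootsOfUnity']; exact z.2)
    rw [← hk, AlgEquiv.commutes]
  let χ : (E ≃ₐ[K] E) →* rootsOfUnity r E :=
    MonoidHom.mk' (fun s => ⟨_, hmem s⟩) fun s t => by
      refine Subtype.ext (Units.ext (mul_right_cancel₀ hρ0 ?_))
      rw [hval (s * t)]
      show s (t ρ) = _
      conv_lhs => rw [← hval t, map_mul, hfixζ, ← hval s]
      simp only [Subgroup.coe_mul, Units.val_mul]
      ring
  refine ⟨χ, fun s => hval s, ?_⟩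
  set d := Nat.card χ.range with hd
  have hfixd : ∀ s : E ≃ₐ[K] E, s (ρ ^ d) = ρ ^ d := by
    intro s
    rw [map_pow, ← hval s, mul_pow]
    have h1 : (⟨χ s, ⟨s, rfl⟩⟩ : χ.range) ^ d = 1 := pow_card_eq_one'
    have h2 : (((χ s : rootsOfUnity r E) : Eˣ) : E) ^ d = 1 := by
      have := congrArg (fun z : χ.range => (((z : rootsOfUnity r E) : Eˣ) : E)) h1
      simpa using this
    rw [show (((⟨_, hmem s⟩ : rootsOfUnity r E) : Eˣ) : E) = (((χ s : rootsOfUnity r E) : Eˣ) : E) from rfl,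
      h2, one_mul]
  have hdvd := dvd_of_pow_mem_dvr r ϖ hϖ ρ hρ (hfix _ hfixd)
  have hle : Nat.card (rootsOfUnity r E) ≤ r := card_rootsOfUnity E r
  have hdle : r ≤ d := Nat.le_of_dvd (by rw [hd]; exact Nat.card_pos) hdvd
  exact MonoidHom.range_eq_top.mp (Subgroup.eq_top_of_le_card _ (by omega))

end Char

section Finite

variable {L : Type u} [Field L] [Algebra K L] [FiniteDimensional K L] [IsGalois K L]
  (r : ℕ) [NeZero r] (hr : IsUnit (r : ResidueField R))
  (ϖ : R) (hϖ : Irreducible ϖ) (ρ : L) (hρ : ρ ^ r = algebraMap K L (algebraMap R K ϖ))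

include hr hρ hϖ in
/-- An automorphism fixing `ρ` is a product of two `r`-th powers. -/
theorem exists_pow_mul_pow' [Algebra R L] [IsScalarTower R K L]
    (hμ : ∀ z : L, z ^ r = 1 → z ∈ (algebraMap K L).range)
    (hloc : IsLocalRing (integralClosure R L))
    (hres0 : ∀ (s : L ≃ₐ[K] L) (a : integralClosure R L), ¬ IsUnit (galRestrict R K L (integralClosure R L) s a - a))
    (σ : L ≃ₐ[K] L) (hσ : σ ρ = ρ) :
    ∃ τ ν : L ≃ₐ[K] L, τ ^ r * ν ^ r = σ := by
  classical
  let V := integralClosure R L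
  haveI : IsIntegralClosure V R L := integralClosure.isIntegralClosure R L
  haveI : IsFractionRing V L := IsIntegralClosure.isFractionRing_of_finite_extension R K L V
  haveI : IsDedekindDomain V := integralClosure.isDedekindDomain R K L
  haveI : Module.Finite R V := IsIntegralClosure.finite R K L V
  haveI : IsLocalRing V := hloc
  have hinjV : Function.Injective (algebraMap R V) := by
    intro a b h
    have := congrArg (fun z : V => (z : L)) h
    refine IsFractionRing.injective R K ((algebraMap K L).injective ?_)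
    rw [← IsScalarTower.algebraMap_apply R K L, ← IsScalarTower.algebraMap_apply R K L]
    exact this
  haveI : FaithfulSMul R V := (faithfulSMul_iff_algebraMap_injective R V).mpr hinjV
  have hnf : ¬ IsField V := fun h => IsDiscreteValuationRing.not_isField R
    (isField_of_isIntegral_of_isField hinjV h)
  haveI : IsNoetherianRing V := inferInstance
  haveI : IsDiscreteValuationRing V :=
    ((IsDiscreteValuationRing.TFAE V hnf).out 2 0).mp (inferInstance : IsDedekindDomain V)
  obtain ⟨p, hp⟩ := IsDiscreteValuationRing.exists_irreducible V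
  let act : (L ≃ₐ[K] L) ≃* (V ≃ₐ[R] V) := galRestrict R K L V
  haveI : IsLocalHom (algebraMap R V) := (Algebra.IsIntegral.isLocalHom (R := R) (S := V))
  have hres : ∀ (s : L ≃ₐ[K] L) (a : V), act s a - a ∈ maximalIdeal V := fun s a =>
    (mem_maximalIdeal _).mpr (hres0 s a)
  have hu : ∀ s : L ≃ₐ[K] L, ∃ u : Vˣ, act s p = u * p := by
    intro s
    have hirr : Irreducible (act s p) := (MulEquiv.irreducible_iff (act s)).mpr hp
    obtain ⟨u, hu⟩ := IsDiscreteValuationRing.associated_of_irreducible V hp hirr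
    exact ⟨u, by rw [← hu, mul_comm]⟩
  choose u hu using hu
  let θ : (L ≃ₐ[K] L) →* (ResidueField V)ˣ :=
    MonoidHom.mk' (fun s => (u s).map (residue V : V →* ResidueField V)) fun s t => by
      have h : (u (s * t) : V) = act s (u t) * u s := by
        apply mul_right_cancel₀ hp.ne_zero
        rw [← hu, map_mul]
        show act s (act t p) = _
        rw [hu t, map_mul, hu s]; ring
      refine Units.ext ?_
      show residue V (u (s * t) : V) = residue V (u s : V) * residue V (u t : V)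
      rw [h, map_mul, mul_comm]
      congr 1
      rw [← sub_eq_zero, ← map_sub, residue_eq_zero_iff]
      exact hres s _
  have hkerq : ∀ s : L ≃ₐ[K] L, θ s = 1 → ∀ q : ℕ, IsUnit (q : V) → s ^ q = 1 → s = 1 := by
    intro s hs q hq hsq
    have hu1 : (u s : V) - 1 ∈ maximalIdeal V := by
      rw [← residue_eq_zero_iff, map_sub, map_one, sub_eq_zero]
      exact congrArg Units.val hs
    have hwp : act s p - p ∈ maximalIdeal V ^ 2 := by
      rw [hu, show (u s : V) * p - p = ((u s : V) - 1) * p by ring, pow_two]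
      exact Ideal.mul_mem_mul hu1 ((mem_maximalIdeal _).mpr hp.not_isUnit)
    have hpowq : ∀ j : ℕ, ((act s : V ≃ₐ[R] V) : V ≃+* V) ^ j =
        ((act (s ^ j) : V ≃ₐ[R] V) : V ≃+* V) := by
      intro j
      induction j with
      | zero => rw [pow_zero, pow_zero, map_one]; rfl
      | succ j ih => rw [pow_succ, pow_succ, ih, map_mul]; rfl
    have h1 : ((act s : V ≃ₐ[R] V) : V ≃+* V) = 1 :=
      eq_one_of_tame _ q hq (by rw [hpowq, hsq, map_one]; rfl) (hres s) p hp hwp
    have : act s = 1 := AlgEquiv.ext fun a => RingEquiv.congr_fun h1 a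
    exact act.injective (this.trans (map_one act).symm)
  have hrV : IsUnit (r : V) := by
    have hrR : IsUnit (r : R) := by
      rw [← residue_ne_zero_iff_isUnit, map_natCast]; exact hr.ne_zero
    simpa using hrR.map (algebraMap R V)
  have hcop : (Nat.card θ.ker).Coprime r := by
    by_contra hnc
    obtain ⟨q, hqprime, hq1, hq2⟩ := Nat.Prime.not_coprime_iff_dvd.mp hnc
    haveI := Fact.mk hqprime
    obtain ⟨⟨s, hs⟩, hord⟩ := exists_prime_orderOf_dvd_card' q hq1
    have hsq : s ^ q = 1 := by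
      have := pow_orderOf_eq_one (⟨s, hs⟩ : θ.ker)
      rw [hord] at this
      exact congrArg Subtype.val this
    have hqu : IsUnit (q : V) := isUnit_of_dvd_unit (Nat.cast_dvd_cast hq2) hrV
    have := hkerq s hs q hqu hsq
    subst this
    rw [show (⟨1, hs⟩ : θ.ker) = 1 from rfl, orderOf_one] at hord
    exact hqprime.ne_one hord.symm
  obtain ⟨χ, hχ, hχs⟩ := exists_character' r ϖ hϖ ρ hρ hμ
    (fun x hx => (IsGalois.mem_range_algebraMap_iff_fixed x).mpr hx)
  have hρ0 := rho_ne_zero_dvr r ϖ hϖ ρ hρ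
  have hχσ : χ σ = 1 := Subtype.ext (Units.ext (mul_right_cancel₀ hρ0 (by
    rw [hχ, hσ]; simp)))
  have hW : ∀ w : L ≃ₐ[K] L, θ w = 1 → ∃ ν, θ ν = 1 ∧ ν ^ r = w := by
    intro w hw
    refine ⟨((powCoprime hcop).symm ⟨w, hw⟩ : θ.ker), ((powCoprime hcop).symm ⟨w, hw⟩).2, ?_⟩
    exact congrArg Subtype.val ((powCoprime hcop).apply_symm_apply ⟨w, hw⟩)
  have hχW : ∀ w : L ≃ₐ[K] L, θ w = 1 → χ w = 1 := by
    intro w hw
    obtain ⟨ν, -, rfl⟩ := hW w hw
    rw [map_pow]
    exact Subtype.ext (Units.ext (by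
      rw [SubgroupClass.coe_pow, Units.val_pow_eq_pow_val]
      simpa using (mem_rootsOfUnity' r _).mp (χ ν).2))
  haveI : IsCyclic θ.range := isCyclic_subgroup_units _
  obtain ⟨⟨_, τ₀, rfl⟩, hgen⟩ := IsCyclic.exists_generator (α := θ.range)
  have hdec : ∀ s, ∃ (j : ℤ) (w : L ≃ₐ[K] L), θ w = 1 ∧ s = τ₀ ^ j * w := by
    intro s
    obtain ⟨j, hj⟩ := Subgroup.mem_zpowers_iff.mp (hgen ⟨θ s, s, rfl⟩)
    have hj' : θ τ₀ ^ j = θ s := by simpa using congrArg Subtype.val hj
    exact ⟨j, (τ₀ ^ j)⁻¹ * s, by rw [map_mul, map_inv, map_zpow, hj', inv_mul_cancel],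
      (mul_inv_cancel_left _ _).symm⟩
  have hord : r ∣ orderOf (χ τ₀) := by
    refine dvd_of_pow_mem_dvr r ϖ hϖ ρ hρ ((IsGalois.mem_range_algebraMap_iff_fixed _).mpr fun s => ?_)
    obtain ⟨j, w, hw, rfl⟩ := hdec s
    have h1 : χ (τ₀ ^ j * w) ^ orderOf (χ τ₀) = 1 := by
      rw [map_mul, hχW w hw, mul_one, map_zpow, ← zpow_natCast, ← zpow_mul, mul_comm, zpow_mul,
        zpow_natCast, pow_orderOf_eq_one, one_zpow]
    rw [map_pow, ← hχ, mul_pow, ← Units.val_pow_eq_pow_val, ← SubgroupClass.coe_pow, h1]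
    simp
  obtain ⟨j, w, hw, rfl⟩ := hdec σ
  rw [map_mul, hχW w hw, mul_one, map_zpow] at hχσ
  obtain ⟨i, hi⟩ := dvd_trans (Int.natCast_dvd_natCast.mpr hord) (orderOf_dvd_iff_zpow_eq_one.mpr hχσ)
  obtain ⟨ν, -, hν⟩ := hW w hw
  exact ⟨τ₀ ^ i, ν, by rw [hν, ← zpow_natCast, ← zpow_mul, mul_comm i, ← hi]⟩

end Finite

end Tame97
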